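import Groth.Agent.Lib.ModLimH13.Sections
import Groth.Agent.Lib.QcohDesc12.BC
import Groth.Agent.Lib.Ample18.Separated
import Groth.Agent.Lib.Twist.Triv
import Groth.Prelude.Def_Pic
import Mathlib.FieldTheory.Galois.Infinite
import Mathlib.LinearAlgebra.TensorProduct.Basis
import Mathlib.Topology.Sheaves.SheafCondition.UniqueGluing

/-!
# A trivialisation fixed by Galois descends
-/

set_option autoImplicit false
set_option linter.style.haveILetI false
set_option backward.isDefEq.respectTransparency false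
set_option backward.isDefEq.respectTransparency.types false

universe u

open CategoryTheory CategoryTheory.Limits AlgebraicGeometry TopologicalSpace
open Opposite
open scoped TensorProduct

noncomputable section

namespace Groth.Agent.PicAxes15

open ModLimH13 (res' trans trans_res' trans_smul trans_add)

variable {k K : Type u} [Field k] [Field K] [Algebra k K]

/-- The automorphism of the spectrum given by a field automorphism. -/
def specAut (σ : K ≃ₐ[k] K) : Spec (CommRingCat.of K) ⟶ Spec (CommRingCat.of K) :=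
  Spec.map (CommRingCat.ofHom σ.toRingEquiv.toRingHom)

theorem mem_range_of_fixed [IsGalois k K] (c : Γ(Spec (CommRingCat.of K), ⊤))
    (hc : ∀ σ : K ≃ₐ[k] K, (specAut σ).appTop c = c) :
    c ∈ Set.range (Spec.map (CommRingCat.ofHom (algebraMap k K))).appTop := by
  let e := (Scheme.ΓSpecIso (CommRingCat.of K))
  obtain ⟨d, hd⟩ : (show K from e.hom c) ∈ Set.range (algebraMap k K) := by
    refine IntermediateField.mem_bot.mp ((InfiniteGalois.mem_bot_iff_fixed _).mpr fun σ => ?_)
    have h := congrArg e.hom (hc σ)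
    rw [← CommRingCat.comp_apply, specAut, Scheme.ΓSpecIso_naturality] at h
    exact h
  refine ⟨(Scheme.ΓSpecIso (CommRingCat.of k)).inv d, ?_⟩
  rw [← CommRingCat.comp_apply, ← Scheme.ΓSpecIso_inv_naturality]
  show e.inv (algebraMap k K d) = c
  rw [hd, Iso.hom_inv_id_apply]

variable {X XK : Scheme.{u}} {f : X ⟶ Spec (CommRingCat.of k)} {π : XK ⟶ X} {g : XK ⟶ Spec (CommRingCat.of K)}
  (H : IsPullback π g f (Spec.map (CommRingCat.ofHom (algebraMap k K))))
  {L : X.Modules} [Coh.IsQCoh L]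

include H in
/-- Sections pull back injectively over affines. -/
theorem res'_injective {W : X.Opens} (hW : IsAffineOpen W) :
    Function.Injective (res' π L (le_refl (π ⁻¹ᵁ W))) := by
  let φ := Spec.map (CommRingCat.ofHom (algebraMap k K))
  let Rk := Γ(Spec (CommRingCat.of k), ⊤)
  letI : Field Rk := ((Scheme.ΓSpecIso (CommRingCat.of k)).commRingCatIsoToRingEquiv.toMulEquiv.isField
    (Field.toIsField k)).toField
  letI : Algebra Rk Γ(Spec (CommRingCat.of K), ⊤) := (φ.appLE ⊤ ⊤ le_top).hom.toAlgebra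
  letI : Module Rk Γ(L, W) := Module.compHom _ (f.appLE ⊤ W le_top).hom
  have hbij := QcohDesc12.bcSec_bijective (fk := φ) (h := f) (a := g) (g := π) (U := ⊤) (W := ⊤) le_top (W' := W)
    le_top (Z₀ := π ⁻¹ᵁ W) le_top le_rfl H.w.symm L (fun _ => rfl) (fun _ _ => rfl) H.flip
    (isAffineOpen_top _) (isAffineOpen_top _) hW (top_inf_eq _).symm
  haveI : Nontrivial Γ(Spec (CommRingCat.of K), ⊤) :=
    (Scheme.ΓSpecIso (CommRingCat.of K)).commRingCatIsoToRingEquiv.toEquiv.nontrivial
  intro v w hvw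
  have h1 : (1 : Γ(Spec (CommRingCat.of K), ⊤)) ⊗ₜ[Rk] v = (1 : Γ(Spec (CommRingCat.of K), ⊤)) ⊗ₜ[Rk] w := by
    refine hbij.1 ?_
    rw [QcohDesc12.bcSec_tmul, QcohDesc12.bcSec_tmul, hvw]
  exact (Module.FaithfullyFlat.tensorProduct_mk_injective (A := Rk) (B := Γ(Spec (CommRingCat.of K), ⊤)) Γ(L, W)) h1

variable [IsGalois k K] (σX : (K ≃ₐ[k] K) → (XK ⟶ XK)) (w : ∀ σ, σX σ ≫ π = π)
  (hg : ∀ σ, σX σ ≫ g = g ≫ specAut σ) (le : ∀ σ (W : X.Opens), π ⁻¹ᵁ W ≤ σX σ ⁻¹ᵁ (π ⁻¹ᵁ W))

include H hg in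
/-- A fixed section comes from below, over affines. -/
theorem exists_of_fixed_affine {W : X.Opens} (hW : IsAffineOpen W)
    (t : Γ((Scheme.Modules.pullback π).obj L, π ⁻¹ᵁ W))
    (ht : ∀ σ, trans (σX σ) π L (w σ) (le σ W) t = t) : ∃ v : Γ(L, W), res' π L le_rfl v = t := by
  classical
  let φ := Spec.map (CommRingCat.ofHom (algebraMap k K))
  let Rk := Γ(Spec (CommRingCat.of k), ⊤)
  let RK := Γ(Spec (CommRingCat.of K), ⊤)
  letI : Field Rk := ((Scheme.ΓSpecIso (CommRingCat.of k)).commRingCatIsoToRingEquiv.toMulEquiv.isField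
    (Field.toIsField k)).toField
  letI : Algebra Rk RK := (φ.appLE ⊤ ⊤ le_top).hom.toAlgebra
  letI : Module Rk Γ(L, W) := Module.compHom _ (f.appLE ⊤ W le_top).hom
  let B := QcohDesc12.bcSec (fk := φ) (h := f) (a := g) (g := π) (U := ⊤) (W := ⊤) le_top (W' := W) le_top
    (Z₀ := π ⁻¹ᵁ W) le_top le_rfl H.w.symm L (fun _ => rfl) (fun _ _ => rfl)
  have hbij : Function.Bijective B := QcohDesc12.bcSec_bijective (fk := φ) (h := f) (a := g) (g := π) (U := ⊤)
    (W := ⊤) le_top (W' := W) le_top (Z₀ := π ⁻¹ᵁ W) le_top le_rfl H.w.symm L (fun _ => rfl) (fun _ _ => rfl) H.flip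
    (isAffineOpen_top _) (isAffineOpen_top _) hW (top_inf_eq _).symm
  obtain ⟨z, hz⟩ := hbij.2 t
  let b := Module.Free.chooseBasis Rk Γ(L, W)
  let e := TensorProduct.equivFinsuppOfBasisRight (M := RK) b
  have hφσ : ∀ σ : K ≃ₐ[k] K, specAut σ ≫ φ = φ := fun σ => by
    rw [specAut, ← Spec.map_comp, ← CommRingCat.ofHom_comp]
    congr 2
    exact RingHom.ext fun r => σ.commutes r
  let s : (K ≃ₐ[k] K) → (RK →ₗ[Rk] RK) := fun σ =>
    { toFun := fun c => (specAut σ).appTop c
      map_add' := map_add _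
      map_smul' := fun r c => by
        simp only [Algebra.smul_def, RingHom.algebraMap_toAlgebra, map_mul, RingHom.id_apply]
        congr 1
        show (φ.appTop ≫ (specAut σ).appTop) r = φ.appTop r
        rw [← Scheme.Hom.comp_appTop, hφσ] }
  have hB : ∀ σ z, trans (σX σ) π L (w σ) (le σ W) (B z) = B ((s σ).rTensor Γ(L, W) z) := by
    intro σ z
    induction z using TensorProduct.induction_on with
    | zero => simp [ModLimH13.trans_zero]
    | add a b ha hb => rw [map_add, trans_add, ha, hb, map_add, map_add]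
    | tmul c v =>
      rw [LinearMap.rTensor_tmul, QcohDesc12.bcSec_tmul, QcohDesc12.bcSec_tmul, trans_smul, trans_res']
      congr 1
      show (g.appLE ⊤ (π ⁻¹ᵁ W) le_top ≫ (σX σ).appLE (π ⁻¹ᵁ W) (π ⁻¹ᵁ W) (le σ W)) c =
        ((specAut σ).appLE ⊤ ⊤ le_top ≫ g.appLE ⊤ (π ⁻¹ᵁ W) le_top) c
      rw [Scheme.Hom.appLE_comp_appLE, Scheme.Hom.appLE_comp_appLE]
      simp only [hg]
  have hfix : ∀ σ, (s σ).rTensor Γ(L, W) z = z := fun σ => hbij.1 (by rw [← hB, hz, ht])
  have he : ∀ σ i y, e ((s σ).rTensor Γ(L, W) y) i = s σ (e y i) := by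
    intro σ i y
    induction y using TensorProduct.induction_on with
    | zero => simp
    | add a b ha hb => simp only [map_add, Finsupp.add_apply, ha, hb]
    | tmul c v =>
      rw [LinearMap.rTensor_tmul, TensorProduct.equivFinsuppOfBasisRight_apply_tmul_apply,
        TensorProduct.equivFinsuppOfBasisRight_apply_tmul_apply, map_smul]
  have hc : ∀ i, ∃ r : Rk, algebraMap Rk RK r = e z i := fun i => by
    obtain ⟨r, hr⟩ := mem_range_of_fixed (k := k) (e z i) fun σ => (he σ i z).symm.trans (by rw [hfix σ])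
    exact ⟨r, hr⟩
  choose r hr using hc
  refine ⟨∑ i ∈ (e z).support, r i • b i, ?_⟩
  rw [← hz]
  have hz1 : z = (1 : RK) ⊗ₜ[Rk] ∑ i ∈ (e z).support, r i • b i := by
    conv_lhs => rw [← e.symm_apply_apply z, TensorProduct.equivFinsuppOfBasisRight_symm_apply]
    rw [TensorProduct.tmul_sum, Finsupp.sum]
    refine Finset.sum_congr rfl fun i _ => ?_
    rw [TensorProduct.tmul_smul, TensorProduct.smul_tmul', Algebra.smul_def, mul_one, hr]
  conv_rhs => rw [hz1, QcohDesc12.bcSec_tmul, map_one, one_smul]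

include H hg le in
/-- A generating section fixed by the Galois group descends to a generating section. -/
theorem isTrivialCl_of_fixed [Surjective π] [X.IsSeparated] (hL : PicF.IsInvertible L)
    (t : Γ((Scheme.Modules.pullback π).obj L, ⊤))
    (hgen : ∀ z : XK, Amp.Gen (Amp.gm ((Scheme.Modules.pullback π).obj L) z (U := ⊤) trivial t))
    (ht : ∀ σ, trans (σX σ) π L (w σ) (W' := ⊤) (W'' := ⊤) le_top t = t) :
    PicF.IsTrivialCl (PicF.cl L) := by
  have hloc : ∀ W : X.affineOpens, ∃ v : Γ(L, W.1), res' π L le_rfl v = M1.mres _ le_top t := fun W => by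
    refine exists_of_fixed_affine H σX w hg le W.2 _ fun σ => ?_
    rw [ModLimH13.trans_mres]
    conv_rhs => rw [← ht σ, ModLimH13.mres_trans]
  choose v hv using hloc
  let C : TopCat.Sheaf AddCommGrpCat.{u} X := ⟨L.presheaf, L.isSheaf⟩
  obtain ⟨s, hs, -⟩ := C.existsUnique_gluing' (fun W : X.affineOpens => W.1) ⊤ (fun W => homOfLE le_top)
    (fun x _ => by
      obtain ⟨W, hW, hxW, -⟩ := exists_isAffineOpen_mem_and_subset (X := X) (x := x) (U := ⊤) trivial
      exact Opens.mem_iSup.2 ⟨⟨W, hW⟩, hxW⟩) v (fun W W' => by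
      show M1.mres L inf_le_left (v W) = M1.mres L inf_le_right (v W')
      refine res'_injective H (W.2.inf W'.2) ?_
      rw [ModLimH13.res'_mres, ModLimH13.res'_mres,
        ← ModLimH13.mres_res' π L (W := W.1) le_rfl (π.preimage_mono (inf_le_left : W.1 ⊓ W'.1 ≤ W.1)) (v W),
        ← ModLimH13.mres_res' π L (W := W'.1) le_rfl (π.preimage_mono (inf_le_right : W.1 ⊓ W'.1 ≤ W'.1)) (v W'),
        hv, hv, M1.mres_mres, M1.mres_mres])
  have hsgen : ∀ x : X, Amp.Gen (Amp.gm L x (U := ⊤) trivial s) := fun x => by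
    obtain ⟨W, hW, hxW, -⟩ := exists_isAffineOpen_mem_and_subset (X := X) (x := x) (U := ⊤) trivial
    obtain ⟨z, rfl⟩ := π.surjective x
    have hsW : M1.mres L (le_top : W ≤ ⊤) s = v ⟨W, hW⟩ := hs ⟨W, hW⟩
    rw [← Amp.gm_res (le_top : W ≤ ⊤) hxW, show M2.res L (le_top : W ≤ ⊤) s = v ⟨W, hW⟩ from hsW,
      ← Amp.gen_pullSec_iff π hL (y := z) hxW]
    have h1 := hv ⟨W, hW⟩
    rw [res', M1.mres_id] at h1
    rw [h1]
    erw [Amp.gm_res]
    exact hgen z
  have htop : CohB1.genLocus L (M1.secHom s) = ⊤ :=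
    Amp.genLocus_eq_of_forall hL _ ⊤ fun x => by
      rw [Amp.gval_secHom]
      exact iff_of_true (hsgen x) trivial
  have hG := Amp.isGenerator_genLocus hL (M1.secHom s)
  obtain ⟨i⟩ := Twist.nonempty_iso_of_generator L s fun U => by
    have h := hG U (htop.ge.trans' le_top)
    simp only [Amp.gval_secHom, Amp.res_res] at h
    exact h
  exact Quot.sound ⟨i⟩

end Groth.Agent.PicAxes15
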