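import Groth.Agent.Lib.PicAxes15.Sect
import Groth.Agent.Lib.RatGrp14.Scheme
import Groth.Agent.Lib.BorelFix21.BaseChange
import Groth.Agent.Lib.AbDual22.Biduality
import Groth.Agent.Lib.PicNormal14.Rational
import Groth.Agent.S16117

/-!
# Line bundles on a product of groups trivial on both axes
-/

set_option autoImplicit false
set_option linter.style.haveILetI false
set_option backward.isDefEq.respectTransparency false
set_option backward.isDefEq.respectTransparency.types false

universe u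

open CategoryTheory CategoryTheory.Limits MonoidalCategory CartesianMonoidalCategory MonObj AlgebraicGeometry
open Opposite

noncomputable section

namespace Groth.Agent.PicAxes15

/-- Invariance of the pullback along an axis. -/
theorem pl_axis {X XK T T0 : Scheme.{u}} {L : X.Modules} [Coh.IsQCoh L] {π : XK ⟶ X} (σX : XK ⟶ XK)
    (wσ : σX ≫ π = π) (j : T ⟶ XK) (πT : T ⟶ T0) (j0 : T0 ⟶ X) (wj : j ≫ π = πT ≫ j0) (σT : T ⟶ T)
    (wT : σT ≫ πT = πT) (hj : σT ≫ j = j ≫ σX) (s0 : Γ((Scheme.Modules.pullback j0).obj L, ⊤))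
    (t : Γ((Scheme.Modules.pullback π).obj L, ⊤)) (b : Γ(T, ⊤))
    (hb : pl j wj t = b • pl πT rfl s0) :
    pl j wj (pl σX wσ t) = σT.appTop b • pl πT rfl s0 := by
  have w' : σT ≫ πT ≫ j0 = πT ≫ j0 := by rw [← Category.assoc, wT]
  rw [pl_pl j σX wσ wj (σT ≫ j) hj.symm t, ← pl_pl σT j wj w' (σT ≫ j) rfl t, hb, pl_smul,
    pl_pl σT πT rfl w' πT wT]

variable {K : Type u} [Field K]

theorem isNormalScheme_of_smooth' (G : Over (Spec (CommRingCat.of K))) [Smooth G.hom] :
    Pi1.IsNormalScheme G.left := fun x =>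
  ⟨SmoothReg17.isDomain_stalk G.hom x, SmoothReg17.isIntegrallyClosed_stalk G.hom x⟩

theorem isIntegral_grp [IsAlgClosed K] (G : Over (Spec (CommRingCat.of K))) [GrpObj G] [Smooth G.hom]
    [QuasiCompact G.hom] [ConnectedSpace ↥G.left] : IsIntegral G.left := by
  haveI := AbRigid.irreducibleSpace_of_isAlgClosed G
  haveI : IsReduced G.left := by
    haveI : ∀ x : G.left, _root_.IsReduced (G.left.presheaf.stalk x) := fun x => by
      haveI := SmoothReg17.isDomain_stalk G.hom x
      infer_instance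
    exact isReduced_of_isReduced_stalk G.left
  exact isIntegral_of_irreducibleSpace_of_isReduced G.left

/-- Over an algebraically closed field a class trivial on both axes is trivial. -/
theorem isTrivialCl_of_axes_algClosed [IsAlgClosed K] (P Q : Over (Spec (CommRingCat.of K))) [GrpObj P] [GrpObj Q]
    [IsAffine P.left] [Smooth P.hom] [ConnectedSpace ↥P.left] [Smooth Q.hom] [QuasiCompact Q.hom]
    [ConnectedSpace ↥Q.left] (M : (P ⊗ Q).left.Modules) (hM : PicF.IsInvertible M)
    (hP : PicF.IsTrivialCl (PicF.pullCl (lift (𝟙 P) (toUnit P ≫ η[Q])).left (PicF.cl M)))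
    (hQ : PicF.IsTrivialCl (PicF.pullCl (lift (toUnit Q ≫ η[P]) (𝟙 Q)).left (PicF.cl M))) :
    PicF.IsTrivialCl (PicF.cl M) := by
  haveI := RatGrp14.isIntegral_left P
  haveI := isIntegral_grp Q
  haveI : IsSeparated P.hom := AbRigid.isSeparated_of_grpObj P
  haveI : IsSeparated Q.hom := AbRigid.isSeparated_of_grpObj Q
  haveI : LocallyOfFiniteType P.hom := inferInstance
  haveI : QuasiCompact P.hom := inferInstance
  letI : PicGrp.Law P.left := M2.law _
  letI : PicGrp.Law Q.left := M2.law _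
  letI : PicGrp.Law (P ⊗ Q).left := M2.law _
  obtain ⟨U, n, V, e, hU, he⟩ := RatGrp14.exists_open_iso P
  obtain ⟨⟨A, B⟩, hAB⟩ := (PicNormal14.bijective_mul (X := P) (Y := Q) (isNormalScheme_of_smooth' P)
    (isNormalScheme_of_smooth' Q) U n V e hU he (M2.pullMul _) (M2.pullMul _)).2 (PicGrp.cls M hM)
  have h1 := congrArg (PicGrp.pullHom (lift (𝟙 P) (toUnit P ≫ η[Q])).left (M2.pullMul _)) hAB
  have h2 := congrArg (PicGrp.pullHom (lift (toUnit Q ≫ η[P]) (𝟙 Q)).left (M2.pullMul _)) hAB
  rw [map_mul, RatGrp14.pullHom_comp, RatGrp14.pullHom_comp, lift_fst, lift_snd, RatGrp14.pullHom_const,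
    RatGrp14.pullHom_id _ rfl, _root_.mul_one, PicGrp.pullHom_cls] at h1
  rw [map_mul, RatGrp14.pullHom_comp, RatGrp14.pullHom_comp, lift_fst, lift_snd, RatGrp14.pullHom_const,
    RatGrp14.pullHom_id _ rfl, _root_.one_mul, PicGrp.pullHom_cls] at h2
  rw [show A = 1 from h1.trans ((PicGrp.cls_eq_one_iff_isTrivialCl _).2 hP),
    show B = 1 from h2.trans ((PicGrp.cls_eq_one_iff_isTrivialCl _).2 hQ)] at hAB
  simp only [map_one, _root_.one_mul] at hAB
  exact (PicGrp.cls_eq_one_iff_isTrivialCl hM).1 hAB.symm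

variable {k : Type u} [Field k]

theorem pullCl_trivial {A B : Scheme.{u}} (g : A ⟶ B) {c : PicF.Cl B} (h : PicF.IsTrivialCl c) :
    PicF.IsTrivialCl (PicF.pullCl g c) := by
  rw [h]
  exact Quot.sound ⟨PicLoc.pullbackStructureIso g⟩

theorem pullCl_pullCl {A B C : Scheme.{u}} (f : A ⟶ B) (g : B ⟶ C) (c : PicF.Cl C) :
    PicF.pullCl f (PicF.pullCl g c) = PicF.pullCl (f ≫ g) c := by
  induction c using Quot.ind with
  | mk N => exact Quot.sound ⟨(Scheme.Modules.pullbackComp f g).app N⟩

/-- An invertible module on a product of groups trivial on both axes is trivial. -/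
theorem isTrivialCl_of_axes [Algebra k K] [IsAlgClosed K] [IsGalois k K]
    (P Q : Over (Spec (CommRingCat.of k))) [GrpObj P] [GrpObj Q]
    [IsAffine P.left] [Smooth P.hom] [ConnectedSpace ↥P.left]
    [Smooth Q.hom] [QuasiCompact Q.hom] [ConnectedSpace ↥Q.left]
    (L : (P ⊗ Q).left.Modules) (hL : PicF.IsInvertible L)
    (hP : PicF.IsTrivialCl (PicF.pullCl (lift (𝟙 P) (toUnit P ≫ η[Q])).left (PicF.cl L)))
    (hQ : PicF.IsTrivialCl (PicF.pullCl (lift (toUnit Q ≫ η[P]) (𝟙 Q)).left (PicF.cl L))) :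
    PicF.IsTrivialCl (PicF.cl L) := by
  classical
  let φ : Spec (CommRingCat.of K) ⟶ Spec (CommRingCat.of k) := Spec.map (CommRingCat.ofHom (algebraMap k K))
  haveI : Surjective φ := inferInstance
  haveI : IsSeparated P.hom := AbRigid.isSeparated_of_grpObj P
  haveI : IsSeparated Q.hom := AbRigid.isSeparated_of_grpObj Q
  haveI : (P ⊗ Q).left.IsSeparated := by
    haveI : IsSeparated (P ⊗ Q).hom := inferInstanceAs (IsSeparated (pullback.fst P.hom Q.hom ≫ P.hom))
    exact Scheme.IsSeparated.mk (by rw [← terminal.comp_from (P ⊗ Q).hom]; infer_instance)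
  let PK := Red.bc φ P
  let QK := Red.bc φ Q
  haveI : Smooth PK.hom := BorelFix21.smooth_bc φ P
  haveI : Smooth QK.hom := BorelFix21.smooth_bc φ Q
  haveI : IsAffine PK.left := BorelFix21.isAffine_bc φ P
  haveI : QuasiCompact QK.hom := inferInstanceAs (QuasiCompact (pullback.snd Q.hom φ))
  haveI : ConnectedSpace PK.left := BorelFix21.connectedSpace_bc φ P
  haveI : ConnectedSpace QK.left := BorelFix21.connectedSpace_bc φ Q
  haveI := RatGrp14.isIntegral_left PK
  haveI := isIntegral_grp QK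
  haveI : IsSeparated PK.hom := AbRigid.isSeparated_of_grpObj PK
  haveI : IsSeparated QK.hom := AbRigid.isSeparated_of_grpObj QK
  let πP : PK.left ⟶ P.left := pullback.fst P.hom φ
  let πQ : QK.left ⟶ Q.left := pullback.fst Q.hom φ
  have wP : πP ≫ P.hom = PK.hom ≫ φ := pullback.condition
  have wQ : πQ ≫ Q.hom = QK.hom ≫ φ := pullback.condition
  let π : (PK ⊗ QK).left ⟶ (P ⊗ Q).left := pullback.lift ((fst PK QK).left ≫ πP) ((snd PK QK).left ≫ πQ)
    (by rw [Category.assoc, Category.assoc, wP, wQ, Over.w_assoc, Over.w_assoc])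
  have πfst : π ≫ (fst P Q).left = (fst PK QK).left ≫ πP := pullback.lift_fst _ _ _
  have πsnd : π ≫ (snd P Q).left = (snd PK QK).left ≫ πQ := pullback.lift_snd _ _ _
  have wπ : π ≫ (P ⊗ Q).hom = (PK ⊗ QK).hom ≫ φ := by
    rw [← Over.w (fst P Q), reassoc_of% πfst, wP, Over.w_assoc]
  have H : IsPullback π (PK ⊗ QK).hom (P ⊗ Q).hom φ := by
    have lw : ∀ (s : PullbackCone (P ⊗ Q).hom φ) (R : Over (Spec (CommRingCat.of k))) (f : P ⊗ Q ⟶ R),
        (s.fst ≫ f.left) ≫ R.hom = s.snd ≫ φ := fun s R f => by rw [Category.assoc, Over.w, s.condition]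
    refine ⟨⟨wπ⟩, ⟨PullbackCone.IsLimit.mk _
      (fun s => pullback.lift (pullback.lift (s.fst ≫ (fst P Q).left) s.snd (lw s P (fst P Q)))
        (pullback.lift (s.fst ≫ (snd P Q).left) s.snd (lw s Q (snd P Q)))
        ((pullback.lift_snd _ _ _).trans (pullback.lift_snd _ _ _).symm))
      (fun s => ?_) (fun s => ?_) (fun s m hm hm' => ?_)⟩⟩
    · refine pullback.hom_ext ?_ ?_
      · change (_ ≫ π) ≫ (fst P Q).left = s.fst ≫ (fst P Q).left
        rw [Category.assoc, πfst, ← Category.assoc]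
        erw [pullback.lift_fst, pullback.lift_fst]
      · change (_ ≫ π) ≫ (snd P Q).left = s.fst ≫ (snd P Q).left
        rw [Category.assoc, πsnd, ← Category.assoc]
        erw [pullback.lift_snd, pullback.lift_fst]
    · rw [← Over.w (fst PK QK), ← Category.assoc]
      erw [pullback.lift_fst, pullback.lift_snd]
    · refine pullback.hom_ext ?_ ?_
      · refine Eq.trans ?_ (pullback.lift_fst _ _ _).symm
        refine pullback.hom_ext ?_ ?_
        · erw [pullback.lift_fst]
          rw [← hm, Category.assoc, Category.assoc, πfst]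
          rfl
        · erw [pullback.lift_snd]
          rw [← hm', ← Over.w (fst PK QK), Category.assoc]
          rfl
      · refine Eq.trans ?_ (pullback.lift_snd _ _ _).symm
        refine pullback.hom_ext ?_ ?_
        · erw [pullback.lift_fst]
          rw [← hm, Category.assoc, Category.assoc, πsnd]
          rfl
        · erw [pullback.lift_snd]
          rw [← hm', ← Over.w (snd PK QK), Category.assoc]
          rfl
  haveI : Surjective π := MorphismProperty.of_isPullback (P := @Surjective) H.flip inferInstance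
  haveI : Coh.IsQCoh L := Twist.isQCoh_of_isInvertible hL
  let jP := (lift (𝟙 P) (toUnit P ≫ η[Q])).left
  let jQ := (lift (toUnit Q ≫ η[P]) (𝟙 Q)).left
  let jPK := (lift (𝟙 PK) (toUnit PK ≫ η[QK])).left
  let jQK := (lift (toUnit QK ≫ η[PK]) (𝟙 QK)).left
  have wjP : jPK ≫ π = πP ≫ jP := by
    refine pullback.hom_ext ?_ ?_
    · show (jPK ≫ π) ≫ (fst P Q).left = (πP ≫ jP) ≫ (fst P Q).left
      rw [Category.assoc, πfst, ← Category.assoc, ← Over.comp_left, lift_fst, Category.assoc, ← Over.comp_left,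
        lift_fst, Over.id_left, Category.id_comp, Over.id_left, Category.comp_id]
    · show (jPK ≫ π) ≫ (snd P Q).left = (πP ≫ jP) ≫ (snd P Q).left
      rw [Category.assoc, πsnd, ← Category.assoc, ← Over.comp_left, lift_snd, Category.assoc, ← Over.comp_left,
        lift_snd, Over.comp_left, Over.comp_left, Over.toUnit_left, Over.toUnit_left, Category.assoc]
      erw [AbDual22.η_bc_fst φ Q]
      rw [← Category.assoc, ← wP, Category.assoc]
  have wjQ : jQK ≫ π = πQ ≫ jQ := by
    refine pullback.hom_ext ?_ ?_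
    · show (jQK ≫ π) ≫ (fst P Q).left = (πQ ≫ jQ) ≫ (fst P Q).left
      rw [Category.assoc, πfst, ← Category.assoc, ← Over.comp_left, lift_fst, Category.assoc, ← Over.comp_left,
        lift_fst, Over.comp_left, Over.comp_left, Over.toUnit_left, Over.toUnit_left, Category.assoc]
      erw [AbDual22.η_bc_fst φ P]
      rw [← Category.assoc, ← wQ, Category.assoc]
    · show (jQK ≫ π) ≫ (snd P Q).left = (πQ ≫ jQ) ≫ (snd P Q).left
      rw [Category.assoc, πsnd, ← Category.assoc, ← Over.comp_left, lift_snd, Category.assoc, ← Over.comp_left,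
        lift_snd, Over.id_left, Category.id_comp, Over.id_left, Category.comp_id]
  -- triviality over the algebraically closed field
  let M := (Scheme.Modules.pullback π).obj L
  have hM : PicF.IsInvertible M := PicLoc.isInvertible_pullback π hL
  have hMt : PicF.IsTrivialCl (PicF.cl M) := by
    refine isTrivialCl_of_axes_algClosed PK QK M hM ?_ ?_
    · have h : PicF.IsTrivialCl (PicF.pullCl jPK (PicF.pullCl π (PicF.cl L))) := by
        rw [pullCl_pullCl, wjP, ← pullCl_pullCl]
        exact pullCl_trivial _ hP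
      exact h
    · have h : PicF.IsTrivialCl (PicF.pullCl jQK (PicF.pullCl π (PicF.cl L))) := by
        rw [pullCl_pullCl, wjQ, ← pullCl_pullCl]
        exact pullCl_trivial _ hQ
      exact h
  -- generators
  obtain ⟨t0, ht0⟩ := exists_genAll hMt
  obtain ⟨sP, hsP⟩ := exists_genAll (M := (Scheme.Modules.pullback jP).obj L) hP
  obtain ⟨sQ, hsQ⟩ := exists_genAll (M := (Scheme.Modules.pullback jQ).obj L) hQ
  have hTP := genAll_pl πP (rfl : πP ≫ jP = _) hL hsP
  have hTQ := genAll_pl πQ (rfl : πQ ≫ jQ = _) hL hsQ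
  have hNP := PicLoc.isInvertible_pullback (πP ≫ jP) hL
  have hNQ := PicLoc.isInvertible_pullback (πQ ≫ jQ) hL
  obtain ⟨gP, hgPu, hgP⟩ := exists_unit hNP (genAll_pl jPK wjP hL ht0) hTP
  let t1 := (fst PK QK).left.appTop gP • t0
  have ejP : ∀ r, jPK.appTop ((fst PK QK).left.appTop r) = r := fun r => by
    rw [← CommRingCat.comp_apply, ← Scheme.Hom.comp_appTop, ← Over.comp_left, lift_fst, Over.id_left,
      Scheme.Hom.id_appTop]
    rfl
  have ejQ : ∀ r, jQK.appTop ((snd PK QK).left.appTop r) = r := fun r => by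
    rw [← CommRingCat.comp_apply, ← Scheme.Hom.comp_appTop, ← Over.comp_left, lift_snd, Over.id_left,
      Scheme.Hom.id_appTop]
    rfl
  have ejPs : ∀ r, jPK.appTop ((snd PK QK).left.appTop r) = PK.hom.appTop (η[QK].left.appTop r) := fun r => by
    rw [← CommRingCat.comp_apply, ← Scheme.Hom.comp_appTop, ← Over.comp_left, lift_snd, Over.comp_left,
      Over.toUnit_left, Scheme.Hom.comp_appTop]
    rfl
  have ht1 : GenAll M t1 := genAll_smul ht0 (hgPu.map _)
  have e1 : pl jPK wjP t1 = pl πP rfl sP := by rw [pl_smul, ejP, hgP]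
  obtain ⟨gQ, hgQu, hgQ⟩ := exists_unit hNQ hTQ (genAll_pl jQK wjQ hL ht1)
  obtain ⟨gi, hgi⟩ := hgQu.exists_left_inv
  let b : Γ(Spec (CommRingCat.of K), ⊤) := η[QK].left.appTop gQ
  have ηhom : ∀ (G : Over (Spec (CommRingCat.of K))) [GrpObj G] (r : Γ(Spec (CommRingCat.of K), ⊤)),
      η[G].left.appTop (G.hom.appTop r) = r := fun G _ r => by
    rw [← CommRingCat.comp_apply, ← Scheme.Hom.comp_appTop, Over.w η[G]]
    exact ConcreteCategory.congr_hom Scheme.Hom.id_appTop r
  let v := gi * QK.hom.appTop b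
  let t := (snd PK QK).left.appTop v • t1
  have hbu : IsUnit b := hgQu.map η[QK].left.appTop.hom
  have hvu : IsUnit v := (IsUnit.of_mul_eq_one _ hgi).mul (hbu.map QK.hom.appTop.hom)
  have ht : GenAll M t := genAll_smul ht1 (hvu.map _)
  have hv1 : η[QK].left.appTop v = 1 := by
    rw [map_mul]
    erw [ηhom QK b]
    exact ((map_mul η[QK].left.appTop.hom gi gQ).symm.trans (congrArg _ hgi)).trans (map_one _)
  have etP : pl jPK wjP t = pl πP rfl sP := by
    rw [pl_smul, ejPs, hv1, map_one, one_smul, e1]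
  have etQ : pl jQK wjQ t = QK.hom.appTop b • pl πQ rfl sQ := by
    rw [pl_smul, ejQ, ← hgQ, smul_smul]
    congr 1
    rw [_root_.mul_right_comm, hgi, _root_.one_mul]
  -- the Galois action
  have hφσ : ∀ σ : K ≃ₐ[k] K, specAut σ ≫ φ = φ := fun σ => by
    rw [specAut, ← Spec.map_comp, ← CommRingCat.ofHom_comp]
    congr 2
    exact RingHom.ext fun r => σ.commutes r
  let σX : (K ≃ₐ[k] K) → ((PK ⊗ QK).left ⟶ (PK ⊗ QK).left) := fun σ => H.lift π ((PK ⊗ QK).hom ≫ specAut σ)
    (by rw [Category.assoc, hφσ, wπ])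
  have w : ∀ σ, σX σ ≫ π = π := fun σ => H.lift_fst _ _ _
  have hg : ∀ σ, σX σ ≫ (PK ⊗ QK).hom = (PK ⊗ QK).hom ≫ specAut σ := fun σ => H.lift_snd _ _ _
  have hinv : ∀ σ, pl (σX σ) (w σ) t = t := fun σ => by
    obtain ⟨a, hau, ha⟩ := exists_unit hM ht (genAll_pl (σX σ) (w σ) hL ht)
    let σP : PK.left ⟶ PK.left := pullback.lift πP (PK.hom ≫ specAut σ) (by rw [Category.assoc, hφσ, wP])
    let σQ : QK.left ⟶ QK.left := pullback.lift πQ (QK.hom ≫ specAut σ) (by rw [Category.assoc, hφσ, wQ])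
    have σPπ : σP ≫ πP = πP := pullback.lift_fst _ _ _
    have σQπ : σQ ≫ πQ = πQ := pullback.lift_fst _ _ _
    have σPh : σP ≫ PK.hom = PK.hom ≫ specAut σ := pullback.lift_snd _ _ _
    have σQh : σQ ≫ QK.hom = QK.hom ≫ specAut σ := pullback.lift_snd _ _ _
    have jh : ∀ {T : Over (Spec (CommRingCat.of K))} (j : T ⟶ PK ⊗ QK), j.left ≫ (PK ⊗ QK).hom = T.hom :=
      fun j => Over.w j
    have hjP : σP ≫ jPK = jPK ≫ σX σ := by
      refine H.hom_ext ?_ ?_
      · rw [Category.assoc, Category.assoc, wjP, w, wjP, reassoc_of% σPπ]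
      · rw [Category.assoc, Category.assoc, jh, hg, reassoc_of% (jh (lift (𝟙 PK) (toUnit PK ≫ η[QK]))), σPh]
    have hjQ : σQ ≫ jQK = jQK ≫ σX σ := by
      refine H.hom_ext ?_ ?_
      · rw [Category.assoc, Category.assoc, wjQ, w, wjQ, reassoc_of% σQπ]
      · rw [Category.assoc, Category.assoc, jh, hg, reassoc_of% (jh (lift (toUnit QK ≫ η[PK]) (𝟙 QK))), σQh]
    have aP := pl_axis (σX σ) (w σ) jPK πP jP wjP σP σPπ hjP sP t 1 (by rw [etP, one_smul])
    rw [map_one, ← ha, pl_smul, etP] at aP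
    have hP1 : jPK.appTop a = 1 := smul_cancel hNP hTP aP
    have aQ := pl_axis (σX σ) (w σ) jQK πQ jQ wjQ σQ σQπ hjQ sQ t _ etQ
    rw [← ha, pl_smul, etQ, smul_smul, ← CommRingCat.comp_apply QK.hom.appTop, ← Scheme.Hom.comp_appTop, σQh] at aQ
    have hQ1 := smul_cancel hNQ hTQ aQ
    obtain ⟨bi, hbi⟩ := hbu.exists_left_inv
    let c := (specAut σ).appTop b * bi
    have hQ2 : jQK.appTop a = QK.hom.appTop c := by
      rw [map_mul]
      have h3 : QK.hom.appTop b * QK.hom.appTop bi = 1 := by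
        rw [← map_mul, _root_.mul_comm, hbi, map_one]
      calc jQK.appTop a = jQK.appTop a * (QK.hom.appTop b * QK.hom.appTop bi) := by rw [h3, _root_.mul_one]
        _ = _ := by rw [← _root_.mul_assoc, hQ1]; rfl
    obtain ⟨g, h, -, -, hgh⟩ := S16117.result K PK QK a hau
    have hg1 : g * PK.hom.appTop (η[QK].left.appTop h) = 1 := by
      rw [← hP1, hgh, map_mul, ejP, ejPs]
    have hgc : g = PK.hom.appTop (η[PK].left.appTop g) := by
      have hmu : IsUnit (η[QK].left.appTop h) := by
        have hu := (IsUnit.of_mul_eq_one_right _ hg1).map η[PK].left.appTop.hom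
        change IsUnit (η[PK].left.appTop (PK.hom.appTop (η[QK].left.appTop h))) at hu
        exact (ηhom PK (η[QK].left.appTop h)).subst (motive := fun x => IsUnit x) hu
      obtain ⟨m, hm⟩ := hmu.exists_left_inv
      have : g = PK.hom.appTop m := by
        calc g = g * (PK.hom.appTop (η[QK].left.appTop h) * PK.hom.appTop m) := by
              rw [← map_mul, _root_.mul_comm _ m, hm, map_one, _root_.mul_one]
          _ = _ := by rw [← _root_.mul_assoc, hg1, _root_.one_mul]
      rw [this]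
      exact congrArg PK.hom.appTop (ηhom PK m).symm
    have eg : ∀ r, (fst PK QK).left.appTop (PK.hom.appTop r) = (PK ⊗ QK).hom.appTop r := fun r => by
      rw [← CommRingCat.comp_apply, ← Scheme.Hom.comp_appTop, Over.w]
    have eh : ∀ r, (snd PK QK).left.appTop (QK.hom.appTop r) = (PK ⊗ QK).hom.appTop r := fun r => by
      rw [← CommRingCat.comp_apply, ← Scheme.Hom.comp_appTop, Over.w]
    have hae : a = (snd PK QK).left.appTop (QK.hom.appTop (η[PK].left.appTop g) * h) := by
      rw [hgh, map_mul, eh, ← eg, ← hgc]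
    have hac : a = (snd PK QK).left.appTop (QK.hom.appTop c) := by
      rw [← hQ2]
      conv_lhs => rw [hae]
      conv_rhs => rw [hae, ejQ]
    have hc1 : c = 1 := by
      have h4 := congrArg η[PK].left.appTop hP1
      rw [hac, ejPs, map_one] at h4
      exact (((ηhom PK _).trans (ηhom QK c)).symm.trans h4)
    rw [← ha, hac, hc1, map_one, map_one, one_smul]
  exact isTrivialCl_of_fixed H σX w hg
    (fun σ W => by rw [← Scheme.Hom.comp_preimage, w]) hL t ht hinv

end Groth.Agent.PicAxes15
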