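import Groth.Agent.Lib.PicAxes15.Galois
import Groth.Agent.Lib.EtAssoc12.Trans
import Groth.Prelude.Def_PicGrp

/-!
# Generating global sections of pullbacks of an invertible module
-/

set_option autoImplicit false
set_option linter.style.haveILetI false
set_option backward.isDefEq.respectTransparency false
set_option backward.isDefEq.respectTransparency.types false

universe u

open CategoryTheory CategoryTheory.Limits AlgebraicGeometry TopologicalSpace Opposite

noncomputable section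

namespace Groth.Agent.PicAxes15

open ModLimH13 (res' trans trans_res' trans_smul trans_add)

variable {A B C X : Scheme.{u}} {L : X.Modules}

/-- A global section generates at every point. -/
def GenAll {Y : Scheme.{u}} (M : Y.Modules) (t : Γ(M, ⊤)) : Prop :=
  ∀ z : Y, Amp.Gen (Amp.gm M z (U := ⊤) trivial t)

/-- Pullback of global sections of pullbacks. -/
def pl (p : A ⟶ B) {g : B ⟶ X} {h : A ⟶ X} (w : p ≫ g = h) (t : Γ((Scheme.Modules.pullback g).obj L, ⊤)) :
    Γ((Scheme.Modules.pullback h).obj L, ⊤) :=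
  trans p g L w (W' := ⊤) (W'' := ⊤) le_top t

theorem pl_smul (p : A ⟶ B) {g : B ⟶ X} {h : A ⟶ X} (w : p ≫ g = h) (c : Γ(B, ⊤))
    (t : Γ((Scheme.Modules.pullback g).obj L, ⊤)) : pl p w (c • t) = p.appTop c • pl p w t := by
  rw [pl, trans_smul, Scheme.Hom.appTop, Scheme.Hom.app_eq_appLE]
  rfl

theorem pl_pl [Coh.IsQCoh L] (r : A ⟶ B) (p : B ⟶ C) {g : C ⟶ X} {h : B ⟶ X} (w : p ≫ g = h) {h' : A ⟶ X}
    (w' : r ≫ h = h') (q : A ⟶ C) (e : r ≫ p = q) (t : Γ((Scheme.Modules.pullback g).obj L, ⊤)) :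
    pl r w' (pl p w t) = pl q (by rw [← e, Category.assoc, w, w']) t := by
  subst e
  exact EtAssoc12.trans_trans_gen p g L r w w' _ le_top le_top t

theorem genAll_pl (p : A ⟶ B) {g : B ⟶ X} {h : A ⟶ X} (w : p ≫ g = h) (hL : PicF.IsInvertible L)
    {t : Γ((Scheme.Modules.pullback g).obj L, ⊤)} (ht : GenAll _ t) : GenAll _ (pl (L := L) p w t) := fun z => by
  rw [pl, ModLimH13.trans, res']
  refine (Amp.gen_map_iso ((ModLimH13.cmp p g w).app L) (U := ⊤) trivial _).2 ?_
  erw [Amp.gm_res]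
  exact (Amp.gen_pullSec_iff p (PicLoc.isInvertible_pullback g hL) (U := ⊤) (y := z) trivial t).2 (ht _)

variable {Y : Scheme.{u}} {M : Y.Modules}

theorem isGenerator_of_genAll (hM : PicF.IsInvertible M) {t : Γ(M, ⊤)} (ht : GenAll M t) :
    M2.IsGenerator t := by
  intro V hV
  have htop : CohB1.genLocus M (M1.secHom t) = ⊤ :=
    Amp.genLocus_eq_of_forall hM _ ⊤ fun x => by
      rw [Amp.gval_secHom]
      exact iff_of_true (ht x) trivial
  have h := Amp.isGenerator_genLocus hM (M1.secHom t) V (htop.ge.trans' le_top)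
  simp only [Amp.gval_secHom, Amp.res_res] at h
  exact h

theorem genAll_of_isGenerator {t : Γ(M, ⊤)} (ht : M2.IsGenerator t) : GenAll M t := fun _ =>
  Amp.gen_of_isGenerator ht trivial

theorem smul_cancel (hM : PicF.IsInvertible M) {t : Γ(M, ⊤)} (ht : GenAll M t) {a b : Γ(Y, ⊤)}
    (h : a • t = b • t) : a = b := by
  refine (isGenerator_of_genAll hM ht ⊤ le_rfl).1 ?_
  simp only [show M2.res M le_rfl t = t from Amp.res_self _ t]
  exact h

theorem exists_unit (hM : PicF.IsInvertible M) {t t' : Γ(M, ⊤)} (ht : GenAll M t) (ht' : GenAll M t') :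
    ∃ a : Γ(Y, ⊤), IsUnit a ∧ a • t = t' := by
  obtain ⟨a, ha⟩ := Amp.exists_coeff (isGenerator_of_genAll hM ht) t'
  obtain ⟨b, hb⟩ := Amp.exists_coeff (isGenerator_of_genAll hM ht') t
  refine ⟨a, IsUnit.of_mul_eq_one b ?_, ha⟩
  refine smul_cancel hM ht ?_
  rw [_root_.mul_comm, mul_smul, ha, hb, one_smul]

theorem genAll_smul {t : Γ(M, ⊤)} (ht : GenAll M t) {a : Γ(Y, ⊤)} (ha : IsUnit a) : GenAll M (a • t) := fun z => by
  rw [Amp.gm_smul]
  obtain ⟨v, hv⟩ := ha.map (Y.presheaf.germ ⊤ z trivial).hom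
  change Function.Bijective _
  have hb := (Function.Bijective.of_comp_iff (fun r => r • Amp.gm M z (U := ⊤) trivial t) v.mulRight.bijective).2 (ht z)
  convert hb using 1
  funext r
  show r • _ • _ = (r * (v : Y.presheaf.stalk z)) • _
  rw [mul_smul, hv]

theorem exists_genAll (h : PicF.IsTrivialCl (PicF.cl M)) : ∃ t : Γ(M, ⊤), GenAll M t := by
  obtain ⟨i⟩ := (PicGrp.cl_eq_cl_iff _ _).1 h
  exact ⟨i.inv.app ⊤ (M1.one ⊤), fun z => (Amp.gen_map_iso i.symm (U := ⊤) trivial (M1.one ⊤)).2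
    (Amp.gen_one z (U := ⊤) trivial)⟩

end Groth.Agent.PicAxes15
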